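import Cfsg.Agent.H129.CycRow
import Cfsg.Agent.H564.Near

/-!
# Identification of `E₆(q)` and `²E₆(q)`: the situation (helper414, statements S3480, S3481)

`D : Dat` : the numbers. `ε = 1` (`E₆(q)`) or `ε = -1` (`²E₆(q)`), `d = (3, q - ε)`, `n = (q⁶ + εq³ + 1)/d`,
`m = q⁴ - q² + 1`, `e = (q² + εq + 1) m`.
`Sit D S` : what is known about the simple section `S` of a group with the spectrum of `L = E₆^ε(q)`:
* `on`, `iso` : `n` is an element order, isolated;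
* `om`, `tor` : `m` is an element order, the element orders meeting `m` divide `e` (odd);
* `o8`, `tor8` : for `q` even the same with `q⁴ + 1`, `(q⁴ + 1)(q² - 1)`;
* `prm` : the primes of `|S|` are primes of `|L|`.
-/

set_option autoImplicit false
set_option linter.unusedSectionVars false

namespace Cfsg.Agent.H414.E6

open Cfsg.Agent.H129.CycT Cfsg.Agent.H564.NearTwo

/-- the numbers -/
structure Dat where
  /-- the sign -/
  ε : ℤ
  /-- the field -/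
  q : ℕ
  /-- `(3, q - ε)` -/
  d : ℕ
  /-- the isolated number -/
  n : ℕ
  /-- `Φ₁₂(q)` -/
  m : ℕ
  /-- the order of the torus -/
  e : ℕ
  pp : IsPrimePow q
  eps : ε = 1 ∨ ε = -1
  hd : d = 1 ∨ d = 3
  hd3 : d = 3 ↔ (3 : ℤ) ∣ q - ε
  hn : (d : ℤ) * n = (q : ℤ) ^ 6 + ε * q ^ 3 + 1
  hm : (m : ℤ) = (q : ℤ) ^ 4 - q ^ 2 + 1
  he : (e : ℤ) = ((q : ℤ) ^ 2 + ε * q + 1) * m
  /-- the hypothesis of S3480, S3481 -/
  h3 : d = 3 → 2 ∣ q ∨ 11 ∣ q

/-- the situation -/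
structure Sit (D : Dat) (S : Type*) [Group S] : Prop where
  on : ∃ x : S, orderOf x = D.n
  iso : ∀ (x : S) (s : ℕ), s.Prime → s ∣ D.n → s ∣ orderOf x → orderOf x ∣ D.n
  om : ∃ x : S, orderOf x = D.m
  tor : ∀ (x : S) (s : ℕ), s.Prime → s ∣ D.m → s ∣ orderOf x → orderOf x ∣ D.e
  o8 : 2 ∣ D.q → ∃ x : S, orderOf x = D.q ^ 4 + 1
  tor8 : 2 ∣ D.q → ∀ (x : S) (s : ℕ), s.Prime → s ∣ D.q ^ 4 + 1 → s ∣ orderOf x →
    orderOf x ∣ (D.q ^ 4 + 1) * (D.q ^ 2 - 1)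
  prm : ∀ r : ℕ, r.Prime → r ∣ Nat.card S →
    (r : ℤ) ∣ (D.q : ℤ) * (D.q ^ 5 - D.ε) * (D.q ^ 8 - 1) * (D.q ^ 9 - D.ε) * (D.q ^ 12 - 1)

/-! ### numbers -/

namespace Dat

variable (D : Dat)

theorem two_le : 2 ≤ D.q := D.pp.two_le

theorem two_le' : (2 : ℤ) ≤ D.q := by exact_mod_cast D.two_le

theorem eps_sq : D.ε * D.ε = 1 := by rcases D.eps with h | h <;> rw [h] <;> norm_num

theorem eps_abs : |D.ε| = 1 := by rcases D.eps with h | h <;> rw [h] <;> norm_num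

theorem d_pos : 0 < D.d := by rcases D.hd with h | h <;> omega

theorem m_add : D.m + D.q ^ 2 = D.q ^ 4 + 1 := by
  have h := D.hm
  have : (D.m : ℤ) + D.q ^ 2 = D.q ^ 4 + 1 := by rw [h]; ring
  exact_mod_cast this

theorem m_ge : 13 ≤ D.m := by
  have h1 := D.m_add
  have h2 : 4 ≤ D.q ^ 2 := by nlinarith [D.two_le]
  have h3 : D.q ^ 4 = D.q ^ 2 * D.q ^ 2 := by ring
  nlinarith

/-- `m ≥ 73` unless `q = 2` -/
theorem m_ge' (h : D.q ≠ 2) : 73 ≤ D.m := by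
  have h1 := D.m_add
  have h2 : 9 ≤ D.q ^ 2 := by nlinarith [D.two_le, (by have := D.two_le; omega : 3 ≤ D.q)]
  have h3 : D.q ^ 4 = D.q ^ 2 * D.q ^ 2 := by ring
  nlinarith

theorem m_odd : ¬ 2 ∣ D.m := by
  intro h
  have h1 := D.m_add
  have h2 : D.q % 2 = 0 ∨ D.q % 2 = 1 := by omega
  have h4 : (D.m + D.q ^ 2) % 2 = (D.q ^ 4 + 1) % 2 := by rw [h1]
  have h5 : D.q ^ 2 % 2 = ((D.q % 2) ^ 2) % 2 := by rw [Nat.pow_mod]
  have h6 : D.q ^ 4 % 2 = ((D.q % 2) ^ 4) % 2 := by rw [Nat.pow_mod]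
  rcases h2 with h2 | h2 <;> rw [h2] at h5 h6 <;> omega

theorem n_odd : ¬ 2 ∣ D.n := by
  rintro ⟨k, hk⟩
  have h1 : Even ((D.q : ℤ) ^ 6 + D.ε * D.q ^ 3 + 1) := by
    rw [← D.hn, hk]
    push_cast
    exact ⟨D.d * k, by ring⟩
  have h2 : Even ((D.q : ℤ) ^ 3 * ((D.q : ℤ) ^ 3 + D.ε)) := by
    rcases Int.even_or_odd (D.q : ℤ) with h | h
    · exact (h.pow_of_ne_zero (by norm_num)).mul_right _
    · apply Even.mul_left
      have h3 : Odd D.ε := by rcases D.eps with h | h <;> rw [h] <;> decide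
      exact (h.pow).add_odd h3
  have h3 : Odd ((D.q : ℤ) ^ 6 + D.ε * D.q ^ 3 + 1) := by
    have : (D.q : ℤ) ^ 6 + D.ε * D.q ^ 3 + 1 = (D.q : ℤ) ^ 3 * ((D.q : ℤ) ^ 3 + D.ε) + 1 := by ring
    rw [this]
    exact h2.add_one
  exact (Int.not_even_iff_odd.2 h3) h1

/-- `d n = ε q³` modulo `m` -/
theorem congr_n : (D.m : ℤ) ∣ D.d * D.n - D.ε * D.q ^ 3 := by
  rw [D.hn, D.hm]
  exact ⟨(D.q : ℤ) ^ 2 + 1, by ring⟩

/-- **The kill.** `m ∣ A n + B` with `|A| q³ + |B| d < m` is impossible unless `A ε q³ + B d = 0`. -/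
theorem kill {A B : ℤ} (h : (D.m : ℤ) ∣ A * D.n + B) (hlt : |A| * D.q ^ 3 + |B| * D.d < D.m) :
    A * D.ε * D.q ^ 3 + B * D.d = 0 := by
  have h1 : (D.m : ℤ) ∣ A * D.ε * D.q ^ 3 + B * D.d := by
    have h2 : A * D.ε * D.q ^ 3 + B * D.d = D.d * (A * D.n + B) - A * (D.d * D.n - D.ε * D.q ^ 3) := by ring
    rw [h2]
    exact dvd_sub (Dvd.dvd.mul_left h _) (Dvd.dvd.mul_left D.congr_n _)
  apply Int.eq_zero_of_abs_lt_dvd h1
  have h3 : |A * D.ε * (D.q : ℤ) ^ 3| = |A| * D.q ^ 3 := by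
    rw [abs_mul, abs_mul, D.eps_abs, mul_one, abs_of_nonneg (show (0 : ℤ) ≤ (D.q : ℤ) ^ 3 by positivity)]
  have h4 : |B * (D.d : ℤ)| = |B| * D.d := by
    rw [abs_mul, abs_of_nonneg (show (0 : ℤ) ≤ (D.d : ℤ) by positivity)]
  calc |A * D.ε * (D.q : ℤ) ^ 3 + B * D.d| ≤ |A * D.ε * (D.q : ℤ) ^ 3| + |B * (D.d : ℤ)| := abs_add_le _ _
    _ < D.m := by rw [h3, h4]; exact hlt

theorem m_three : ¬ 3 ∣ D.m := by
  intro h
  have h1 := D.m_add
  have h2 : D.q % 3 < 3 := Nat.mod_lt _ (by norm_num)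
  have h4 : (D.m + D.q ^ 2) % 3 = (D.q ^ 4 + 1) % 3 := by rw [h1]
  have h5 : D.q ^ 2 % 3 = ((D.q % 3) ^ 2) % 3 := by rw [Nat.pow_mod]
  have h6 : D.q ^ 4 % 3 = ((D.q % 3) ^ 4) % 3 := by rw [Nat.pow_mod]
  generalize D.q % 3 = r at *
  interval_cases r <;> omega

/-- prime divisors of `m` -/
theorem prime_m {s : ℕ} (hs : s.Prime) (hd : s ∣ D.m) : s % 12 = 1 := by
  have h2 : s ≠ 2 := by rintro rfl; exact D.m_odd hd
  have h3 : s ≠ 3 := by rintro rfl; exact D.m_three hd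
  have := Fact.mk hs
  have hz : ((D.q : ZMod s)) ^ 4 - (D.q : ZMod s) ^ 2 + 1 = 0 := by
    have h4 : ((D.m : ℕ) : ZMod s) = 0 := (ZMod.natCast_eq_zero_iff _ _).2 hd
    have h5 : ((D.m + D.q ^ 2 : ℕ) : ZMod s) = ((D.q ^ 4 + 1 : ℕ) : ZMod s) := by rw [D.m_add]
    push_cast at h5
    rw [h4, zero_add] at h5
    rw [h5]
    ring
  set a : ZMod s := (D.q : ZMod s)
  have ha0 : a ≠ 0 := by
    intro h0
    rw [h0] at hz
    simp at hz
  have h6 : a ^ 6 = -1 := by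
    have : a ^ 6 + 1 = (a ^ 2 + 1) * (a ^ 4 - a ^ 2 + 1) := by ring
    rw [hz, mul_zero] at this
    exact eq_neg_of_add_eq_zero_left this
  have h2' : (2 : ZMod s) ≠ 0 := by
    intro h0
    have : ((2 : ℕ) : ZMod s) = 0 := by exact_mod_cast h0
    rw [ZMod.natCast_eq_zero_iff] at this
    exact h2 ((Nat.prime_dvd_prime_iff_eq hs Nat.prime_two).1 this)
  have h3' : (3 : ZMod s) ≠ 0 := by
    intro h0
    have : ((3 : ℕ) : ZMod s) = 0 := by exact_mod_cast h0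
    rw [ZMod.natCast_eq_zero_iff] at this
    exact h3 ((Nat.prime_dvd_prime_iff_eq hs Nat.prime_three).1 this)
  have h12 : a ^ 12 = 1 := by
    have : a ^ 12 = (a ^ 6) ^ 2 := by ring
    rw [this, h6]
    ring
  have hord : orderOf a = 12 := by
    refine orderOf_eq_of_pow_and_pow_div_prime (by norm_num) h12 ?_
    intro r hr hrd
    have : r ∣ 2 ^ 2 * 3 := by simpa using hrd
    rcases hr.dvd_mul.1 this with h7 | h7
    · have h8 := (Nat.prime_dvd_prime_iff_eq hr Nat.prime_two).1 (hr.dvd_of_dvd_pow h7)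
      subst h8
      show a ^ 6 ≠ 1
      rw [h6]
      intro h9
      apply h2'
      linear_combination -h9
    · have h8 := (Nat.prime_dvd_prime_iff_eq hr Nat.prime_three).1 h7
      subst h8
      show a ^ 4 ≠ 1
      intro h9
      have h10 : a ^ 2 = 2 := by linear_combination h9 - hz
      apply h3'
      have : a ^ 4 = (a ^ 2) ^ 2 := by ring
      rw [this, h10] at h9
      linear_combination h9
  have h7 : orderOf a ∣ s - 1 := ZMod.orderOf_dvd_card_sub_one ha0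
  rw [hord] at h7
  have := hs.two_le
  omega

theorem prime_m_ge {s : ℕ} (hs : s.Prime) (hd : s ∣ D.m) : 13 ≤ s := by
  have h1 := D.prime_m hs hd
  have := hs.two_le
  omega

/-- `m` and `n` are coprime -/
theorem coprime_mn : Nat.Coprime D.m D.n := by
  apply Nat.coprime_of_dvd
  intro s hs h1 h2
  have hp := Nat.prime_iff_prime_int.1 hs
  have h3 : (s : ℤ) ∣ D.d * D.n - D.ε * D.q ^ 3 := (Int.natCast_dvd_natCast.2 h1).trans D.congr_n
  have h4 : (s : ℤ) ∣ D.ε * D.q ^ 3 :=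
    (dvd_sub_right (Dvd.dvd.mul_left (Int.natCast_dvd_natCast.2 h2) _)).1 h3
  have h5 : (s : ℤ) ∣ D.q := by
    rcases hp.dvd_mul.1 h4 with h6 | h6
    · exfalso
      have : IsUnit (s : ℤ) := isUnit_of_dvd_unit h6 (by rcases D.eps with h | h <;> rw [h] <;> simp)
      exact hp.not_isUnit this
    · exact hp.dvd_of_dvd_pow h6
  have h6 : s ∣ D.q := Int.natCast_dvd_natCast.1 h5
  have h7 := D.m_add
  have h8 : s ∣ D.q ^ 4 + 1 := by
    rw [← h7]
    exact (Nat.dvd_add_right h1).2 (dvd_pow h6 (by norm_num))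
  have h9 : s ∣ 1 := (Nat.dvd_add_right (dvd_pow h6 (by norm_num))).1 h8
  exact hs.one_lt.ne' (Nat.dvd_one.1 h9)

theorem n_three : ¬ 3 ∣ D.n := by
  intro h
  have h0 : (3 : ℤ) ∣ (D.q : ℤ) ^ 6 + D.ε * D.q ^ 3 + 1 := by
    rw [← D.hn]
    exact Dvd.dvd.mul_left (by exact_mod_cast h) _
  have hq : ∃ r : ℤ, (D.q : ℤ) = r ∧ True := ⟨_, rfl, trivial⟩
  -- `3 ∣ q - ε`
  have h1 : (3 : ℤ) ∣ (D.q : ℤ) - D.ε := by
    have h2 : (D.q : ℤ) % 3 = 0 ∨ (D.q : ℤ) % 3 = 1 ∨ (D.q : ℤ) % 3 = 2 := by omega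
    rcases h2 with h2 | h2 | h2
    · exfalso
      have h3 : (3 : ℤ) ∣ D.q := Int.dvd_of_emod_eq_zero h2
      have h4 : (3 : ℤ) ∣ (D.q : ℤ) ^ 6 + D.ε * D.q ^ 3 :=
        dvd_add (dvd_pow h3 (by norm_num)) (Dvd.dvd.mul_left (dvd_pow h3 (by norm_num)) _)
      have h5 := (dvd_add_right h4).1 h0
      norm_num at h5
    · obtain ⟨k, hk⟩ : ∃ k : ℤ, (D.q : ℤ) = 3 * k + 1 := ⟨(D.q : ℤ) / 3, by omega⟩
      rcases D.eps with he | he
      · rw [he, hk]; exact ⟨k, by ring⟩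
      · exfalso
        rw [he, hk] at h0
        obtain ⟨j, hj⟩ := h0
        have : (3 : ℤ) * (j - (243*k^6+486*k^5+405*k^4+171*k^3+36*k^2+3*k)) = 1 := by
          linear_combination -hj
        omega
    · obtain ⟨k, hk⟩ : ∃ k : ℤ, (D.q : ℤ) = 3 * k - 1 := ⟨(D.q : ℤ) / 3 + 1, by omega⟩
      rcases D.eps with he | he
      · exfalso
        rw [he, hk] at h0
        obtain ⟨j, hj⟩ := h0
        have : (3 : ℤ) * (j - (243*k^6-486*k^5+405*k^4-171*k^3+36*k^2-3*k)) = 1 := by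
          linear_combination -hj
        omega
      · rw [he, hk]; exact ⟨k, by ring⟩
  have h2 : D.d = 3 := D.hd3.2 h1
  obtain ⟨k, hk⟩ := h1
  obtain ⟨j, hj⟩ := h
  have h3 := D.hn
  have h4 : (D.q : ℤ) = 3 * k + D.ε := by linarith
  rw [h2, hj, h4] at h3
  push_cast at h3
  rcases D.eps with he | he
  · rw [he] at h3
    have : (9 : ℤ) * (j - (81*k^6+162*k^5+135*k^4+63*k^3+18*k^2+3*k)) = 3 := by
      linear_combination h3
    omega
  · rw [he] at h3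
    have : (9 : ℤ) * (j - (81*k^6-162*k^5+135*k^4-63*k^3+18*k^2-3*k)) = 3 := by
      linear_combination h3
    omega

/-- prime divisors of `n` -/
theorem prime_n {s : ℕ} (hs : s.Prime) (hd : s ∣ D.n) : s % 18 = 1 := by
  have h2 : s ≠ 2 := by rintro rfl; exact D.n_odd hd
  have h3 : s ≠ 3 := by rintro rfl; exact D.n_three hd
  have := Fact.mk hs
  have hz : ((D.q : ZMod s)) ^ 6 + (D.ε : ZMod s) * (D.q : ZMod s) ^ 3 + 1 = 0 := by
    have h4 : ((D.n : ℕ) : ZMod s) = 0 := (ZMod.natCast_eq_zero_iff _ _).2 hd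
    have h5 : (((D.d : ℤ) * D.n : ℤ) : ZMod s) = (((D.q : ℤ) ^ 6 + D.ε * D.q ^ 3 + 1 : ℤ) : ZMod s) := by rw [D.hn]
    push_cast at h5
    rw [h4, mul_zero] at h5
    exact h5.symm
  have he : (D.ε : ZMod s) * (D.ε : ZMod s) = 1 := by
    have := D.eps_sq
    exact_mod_cast congrArg (Int.cast : ℤ → ZMod s) this
  obtain ⟨a, ha⟩ : ∃ a : ZMod s, a = D.ε * D.q := ⟨_, rfl⟩
  have ha3 : a ^ 3 = D.ε * (D.q : ZMod s) ^ 3 := by rw [ha]; linear_combination (D.ε : ZMod s) * D.q ^ 3 * he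
  have ha6 : a ^ 6 = (D.q : ZMod s) ^ 6 := by
    have : a ^ 6 = (a ^ 3) ^ 2 := by ring
    rw [this, ha3]
    linear_combination (D.q : ZMod s) ^ 6 * he
  have h7 : a ^ 6 + a ^ 3 + 1 = 0 := by rw [ha3, ha6]; exact hz
  have ha0 : a ≠ 0 := by
    intro h0
    rw [h0] at h7
    simp at h7
  have h9 : a ^ 9 = 1 := by linear_combination (a ^ 3 - 1) * h7
  have hord : orderOf a = 9 := by
    refine orderOf_eq_of_pow_and_pow_div_prime (by norm_num) h9 ?_
    intro r hr hrd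
    have : r ∣ 3 ^ 2 := by simpa using hrd
    have h8 := (Nat.prime_dvd_prime_iff_eq hr Nat.prime_three).1 (hr.dvd_of_dvd_pow this)
    subst h8
    show a ^ 3 ≠ 1
    intro h10
    have h11 : (3 : ZMod s) = 0 := by
      have : a ^ 6 = (a ^ 3) ^ 2 := by ring
      rw [this, h10] at h7
      linear_combination h7
    have : ((3 : ℕ) : ZMod s) = 0 := by exact_mod_cast h11
    rw [ZMod.natCast_eq_zero_iff] at this
    exact h3 ((Nat.prime_dvd_prime_iff_eq hs Nat.prime_three).1 this)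
  have h8 : orderOf a ∣ s - 1 := ZMod.orderOf_dvd_card_sub_one ha0
  rw [hord] at h8
  have h10 := hs.two_le
  have h11 : s % 2 = 1 := by
    rcases hs.eq_two_or_odd with h | h
    · exact absurd h h2
    · exact h
  omega

theorem prime_n_ge {s : ℕ} (hs : s.Prime) (hd : s ∣ D.n) : 19 ≤ s := by
  have h1 := D.prime_n hs hd
  have := hs.two_le
  omega

theorem e_odd : ¬ 2 ∣ D.e := by
  intro h
  have h1 : Even (D.e : ℤ) := by
    rw [even_iff_two_dvd]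
    exact_mod_cast h
  rw [D.he, Int.even_mul] at h1
  rcases h1 with h1 | h1
  · have h2 : Even ((D.q : ℤ) * (D.q + D.ε)) := by
      rcases Int.even_or_odd (D.q : ℤ) with h | h
      · exact h.mul_right _
      · have h3 : Odd D.ε := by rcases D.eps with h | h <;> rw [h] <;> decide
        exact (h.add_odd h3).mul_left _
    have h3 : (D.q : ℤ) ^ 2 + D.ε * D.q + 1 = (D.q : ℤ) * (D.q + D.ε) + 1 := by ring
    rw [h3] at h1
    exact (Int.not_even_iff_odd.2 h2.add_one) h1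
  · rw [even_iff_two_dvd] at h1
    exact D.m_odd (by exact_mod_cast h1)

theorem m_dvd_e : D.m ∣ D.e := by
  have : (D.m : ℤ) ∣ D.e := by rw [D.he]; exact Dvd.intro_left _ rfl
  exact_mod_cast this

theorem one_lt_n : 19 ≤ D.n := by
  have hn1 : D.n ≠ 1 := by
    intro h
    have h1 := D.hn
    rw [h] at h1
    have h2 := D.two_le'
    have h3 : (8 : ℤ) ≤ (D.q : ℤ) ^ 3 := by nlinarith [sq_nonneg ((D.q : ℤ) - 2), mul_self_nonneg ((D.q : ℤ))]
    have h4 : (D.q : ℤ) ^ 6 = (D.q : ℤ) ^ 3 * (D.q : ℤ) ^ 3 := by ring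
    rcases D.eps with h | h <;> rcases D.hd with h' | h' <;> rw [h, h'] at h1 <;> push_cast at h1 <;> nlinarith
  obtain ⟨s, hs, hd⟩ := Nat.exists_prime_and_dvd hn1
  have h0 : D.n ≠ 0 := by
    intro h
    exact D.n_odd (h ▸ dvd_zero _)
  exact (D.prime_n_ge hs hd).trans (Nat.le_of_dvd (Nat.pos_of_ne_zero h0) hd)

theorem pos_n : 0 < D.n := by have := D.one_lt_n; omega

theorem pos_m : 0 < D.m := by have := D.m_ge; omega

/-- `e` is prime to `n` -/
theorem coprime_en : Nat.Coprime D.e D.n := by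
  apply Nat.coprime_of_dvd
  intro s hs h1 h2
  have hp := Nat.prime_iff_prime_int.1 hs
  have h3 : (s : ℤ) ∣ ((D.q : ℤ) ^ 2 + D.ε * D.q + 1) * D.m := by rw [← D.he]; exact_mod_cast h1
  rcases hp.dvd_mul.1 h3 with h4 | h4
  · have h5 : (s : ℤ) ∣ (D.q : ℤ) ^ 3 - D.ε := by
      have h6 := D.eps_sq
      have : (D.q : ℤ) ^ 3 - D.ε = (D.q - D.ε) * ((D.q : ℤ) ^ 2 + D.ε * D.q + 1) := by
        linear_combination (D.q : ℤ) * h6
      rw [this]
      exact Dvd.dvd.mul_left h4 _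
    have h6 : (s : ℤ) ∣ (D.q : ℤ) ^ 6 + D.ε * D.q ^ 3 + 1 := by
      rw [← D.hn]
      exact Dvd.dvd.mul_left (by exact_mod_cast h2) _
    have h7 : (s : ℤ) ∣ 3 := by
      have h8 := D.eps_sq
      have : (3 : ℤ) = ((D.q : ℤ) ^ 6 + D.ε * D.q ^ 3 + 1) - (D.q ^ 3 + 2 * D.ε) * ((D.q : ℤ) ^ 3 - D.ε) := by
        linear_combination (-2 : ℤ) * h8
      rw [this]
      exact dvd_sub h6 (Dvd.dvd.mul_left h5 _)
    have h8 : s ∣ 3 := by exact_mod_cast h7
    have h9 := (Nat.prime_dvd_prime_iff_eq hs Nat.prime_three).1 h8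
    subst h9
    exact D.n_three h2
  · have h5 : s ∣ D.m := by exact_mod_cast h4
    have := D.coprime_mn
    exact hs.one_lt.ne' (Nat.dvd_one.1 (this ▸ Nat.dvd_gcd h5 h2))

end Dat

/-! ### the situation -/

namespace Sit

variable {D : Dat} {S : Type*} [Group S]

theorem congr {T : Type*} [Group T] (h : Sit D S) (f : S ≃* T) : Sit D T := by
  have key : ∀ x : T, orderOf (f.symm x) = orderOf x := fun x =>
    orderOf_injective f.symm.toMonoidHom f.symm.injective x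
  have key' : ∀ x : S, orderOf (f x) = orderOf x := fun x => orderOf_injective f.toMonoidHom f.injective x
  refine ⟨?_, ?_, ?_, ?_, ?_, ?_, ?_⟩
  · obtain ⟨x, hx⟩ := h.on
    exact ⟨f x, by rw [key', hx]⟩
  · intro x s hs h1 h2
    rw [← key] at h2 ⊢
    exact h.iso _ s hs h1 h2
  · obtain ⟨x, hx⟩ := h.om
    exact ⟨f x, by rw [key', hx]⟩
  · intro x s hs h1 h2
    rw [← key] at h2 ⊢
    exact h.tor _ s hs h1 h2
  · intro h2
    obtain ⟨x, hx⟩ := h.o8 h2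
    exact ⟨f x, by rw [key', hx]⟩
  · intro h0 x s hs h1 h2
    rw [← key] at h2 ⊢
    exact h.tor8 h0 _ s hs h1 h2
  · intro r hr hd
    exact h.prm r hr (by rwa [Nat.card_congr f.toEquiv])

variable (h : Sit D S)

include h

/-- an element order meeting `n` divides `n` -/
theorem dvd_n {a s : ℕ} (ha : ∃ x : S, orderOf x = a) (hs : s.Prime) (hsa : s ∣ a) (hsn : s ∣ D.n) : a ∣ D.n := by
  obtain ⟨x, rfl⟩ := ha
  exact h.iso x s hs hsn hsa

/-- an element order meeting `m` divides `e` -/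
theorem dvd_e {a s : ℕ} (ha : ∃ x : S, orderOf x = a) (hs : s.Prime) (hsa : s ∣ a) (hsm : s ∣ D.m) : a ∣ D.e := by
  obtain ⟨x, rfl⟩ := ha
  exact h.tor x s hs hsm hsa

theorem not_two_n {s : ℕ} (hs : s.Prime) (hsn : s ∣ D.n) : ¬ ∃ x : S, orderOf x = 2 * s := fun hx =>
  D.n_odd ((Dvd.intro _ rfl).trans (h.dvd_n hx hs (Dvd.intro_left _ rfl) hsn))

theorem not_two_m {s : ℕ} (hs : s.Prime) (hsm : s ∣ D.m) : ¬ ∃ x : S, orderOf x = 2 * s := fun hx =>
  D.e_odd ((Dvd.intro _ rfl).trans (h.dvd_e hx hs (Dvd.intro_left _ rfl) hsm))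

/-- no element order meets both `n` and `m` -/
theorem not_both {a s t : ℕ} (ha : ∃ x : S, orderOf x = a) (hs : s.Prime) (hsa : s ∣ a) (hsn : s ∣ D.n)
    (ht : t.Prime) (hta : t ∣ a) (htm : t ∣ D.m) : False := by
  have h1 := h.dvd_n ha hs hsa hsn
  have h2 : t ∣ D.n := hta.trans h1
  exact ht.one_lt.ne' (Nat.dvd_one.1 (D.coprime_mn ▸ Nat.dvd_gcd htm h2))

theorem adj_dvd {r s : ℕ} (hsn : s ∣ D.n) (ha : H94.PG.Adj S s r) : r ∣ D.n := by
  obtain ⟨hs, hr, hne, x, y, hx, hy, hxy⟩ := ha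
  have hco : (orderOf x).Coprime (orderOf y) := by rw [hx, hy]; exact (Nat.coprime_primes hs hr).2 hne
  have h1 := hxy.orderOf_mul_eq_mul_orderOf_of_coprime hco
  rw [hx, hy] at h1
  exact (Dvd.intro_left _ rfl).trans (h.dvd_n ⟨x * y, h1⟩ hs (Dvd.intro _ rfl) hsn)

theorem adj_dvd_e {r s : ℕ} (hsm : s ∣ D.m) (ha : H94.PG.Adj S s r) : r ∣ D.e := by
  obtain ⟨hs, hr, hne, x, y, hx, hy, hxy⟩ := ha
  have hco : (orderOf x).Coprime (orderOf y) := by rw [hx, hy]; exact (Nat.coprime_primes hs hr).2 hne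
  have h1 := hxy.orderOf_mul_eq_mul_orderOf_of_coprime hco
  rw [hx, hy] at h1
  exact (Dvd.intro_left _ rfl).trans (h.dvd_e ⟨x * y, h1⟩ hs (Dvd.intro _ rfl) hsm)

theorem not_near {s : ℕ} (hsn : s ∣ D.n) : ¬ Near S s := by
  rintro (rfl | h3 | ⟨r, h3, h4⟩)
  · exact D.n_odd hsn
  · exact D.n_odd (h.adj_dvd hsn h3)
  · exact D.n_odd (h.adj_dvd (h.adj_dvd hsn h3) h4)

theorem not_adj_two_m {s : ℕ} (hsm : s ∣ D.m) : ¬ H94.PG.Adj S s 2 := fun ha => D.e_odd (h.adj_dvd_e hsm ha)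

section fin

variable [Finite S]

theorem n_dvd_card : D.n ∣ Nat.card S := by
  obtain ⟨x, hx⟩ := h.on
  rw [← hx]
  exact orderOf_dvd_natCard x

theorem m_dvd_card : D.m ∣ Nat.card S := by
  obtain ⟨x, hx⟩ := h.om
  rw [← hx]
  exact orderOf_dvd_natCard x

/-- a prime divisor of `n` -/
theorem exists_prime_n : ∃ s : ℕ, s.Prime ∧ s ∣ D.n ∧ 19 ≤ s ∧ s ∣ Nat.card S := by
  have h1 := D.one_lt_n
  obtain ⟨s, hs, hd⟩ := Nat.exists_prime_and_dvd (show D.n ≠ 1 by omega)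
  exact ⟨s, hs, hd, D.prime_n_ge hs hd, hd.trans h.n_dvd_card⟩

/-- a prime divisor of `m` -/
theorem exists_prime_m : ∃ s : ℕ, s.Prime ∧ s ∣ D.m ∧ 13 ≤ s ∧ s ∣ Nat.card S := by
  have h1 := D.m_ge
  obtain ⟨s, hs, hd⟩ := Nat.exists_prime_and_dvd (show D.m ≠ 1 by omega)
  exact ⟨s, hs, hd, D.prime_m_ge hs hd, hd.trans h.m_dvd_card⟩

/-- **A cyclic subgroup with centralizers.** -/
theorem card_eq {T : Subgroup S} (hc : IsCyclic ↥T) {s : ℕ} (hs : s.Prime) (hsT : s ∣ Nat.card ↥T)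
    (hcent : ∀ y ∈ T, orderOf y = s → Subgroup.centralizer {y} ≤ T) (hsn : s ∣ D.n) :
    Nat.card ↥T = D.n := by
  apply Nat.dvd_antisymm
  · obtain ⟨t, ht⟩ := hc.exists_generator
    have h1 : orderOf (t : S) = Nat.card ↥T := by
      rw [Subgroup.orderOf_coe]
      exact orderOf_eq_card_of_forall_mem_zpowers ht
    exact h.dvd_n ⟨_, h1⟩ hs hsT hsn
  · obtain ⟨x, hx⟩ := h.on
    have hx0 : orderOf x ≠ 0 := (orderOf_pos x).ne'
    have ho : orderOf (x ^ (orderOf x / s)) = s := orderOf_pow_orderOf_div hx0 (by rw [hx]; exact hsn)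
    obtain ⟨g, -, hg⟩ := Cfsg.Agent.H129.CycT.centralizer_conj hc hs hsT hcent ho
    have h1 : g * x * g⁻¹ ∈ T := by
      rw [← hg, Subgroup.mem_centralizer_singleton_iff]
      exact (Commute.self_pow x _).eq
    have h2 : orderOf (g * x * g⁻¹) = orderOf x := by
      have := orderOf_injective (MulAut.conj g).toMonoidHom (MulAut.conj g).injective x
      simpa using this
    rw [← hx, ← h2, ← Subgroup.orderOf_mk _ h1]
    exact orderOf_dvd_natCard _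

/-- the same for `m` -/
theorem card_dvd {T : Subgroup S} (hc : IsCyclic ↥T) {s : ℕ} (hs : s.Prime) (hsT : s ∣ Nat.card ↥T)
    (hcent : ∀ y ∈ T, orderOf y = s → Subgroup.centralizer {y} ≤ T) (hsm : s ∣ D.m) :
    D.m ∣ Nat.card ↥T ∧ Nat.card ↥T ∣ D.e := by
  constructor
  · obtain ⟨x, hx⟩ := h.om
    have hx0 : orderOf x ≠ 0 := (orderOf_pos x).ne'
    have ho : orderOf (x ^ (orderOf x / s)) = s := orderOf_pow_orderOf_div hx0 (by rw [hx]; exact hsm)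
    obtain ⟨g, -, hg⟩ := Cfsg.Agent.H129.CycT.centralizer_conj hc hs hsT hcent ho
    have h1 : g * x * g⁻¹ ∈ T := by
      rw [← hg, Subgroup.mem_centralizer_singleton_iff]
      exact (Commute.self_pow x _).eq
    have h2 : orderOf (g * x * g⁻¹) = orderOf x := by
      have := orderOf_injective (MulAut.conj g).toMonoidHom (MulAut.conj g).injective x
      simpa using this
    rw [← hx, ← h2, ← Subgroup.orderOf_mk _ h1]
    exact orderOf_dvd_natCard _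
  · obtain ⟨t, ht⟩ := hc.exists_generator
    have h1 : orderOf (t : S) = Nat.card ↥T := by
      rw [Subgroup.orderOf_coe]
      exact orderOf_eq_card_of_forall_mem_zpowers ht
    exact h.dvd_e ⟨_, h1⟩ hs hsT hsm

/-- **The isolated torus.** -/
theorem exact {N s : ℕ} (hN : CycExact S N) (hs : s.Prime) (hsN : s ∣ N) (hsn : s ∣ D.n) : N = D.n := by
  obtain ⟨T, h1, rfl, h3⟩ := hN
  refine h.card_eq h1 hs hsN (fun y hy hyo => (h3 y hy ?_).le) hsn
  rintro rfl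
  rw [orderOf_one] at hyo
  exact hs.one_lt.ne hyo

end fin

end Sit

end Cfsg.Agent.H414.E6
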