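import Cfsg.Agent.H414.E6.CovE6
import Cfsg.Agent.S1070

/-!
# Covers of `²E₆(q)` (helper414, S3481)
-/

set_option autoImplicit false
set_option linter.unusedSectionVars false

namespace Cfsg.Agent.H414.E6

open Cfsg Cfsg.Lie Cfsg.Agent.H373.Recog Cfsg.Agent.H414.Tw Cfsg.Agent.H407.E6I Cfsg.Agent.H129

universe u v w

/-- facts on element orders of `²E₆(q)` used below (consequences of the table of maximal tori) -/
structure OrdT (L : Type*) [Group L] (q : ℕ) : Prop where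
  c6 : ∀ (x : L) (p r : ℕ), p.Prime → p ∣ q → ¬ p ∣ orderOf x → r.Prime → 5 ≤ r → r ∣ q ^ 2 - q + 1 → r ∣ orderOf x →
    orderOf x ∣ q ^ 6 - 1 ∨ orderOf x ∣ (q ^ 2 - q + 1) * (q ^ 4 - q ^ 2 + 1)
  c3 : 3 ∣ q + 1 → ∀ (x : L) (a : ℕ), ¬ 3 ^ (a + 1) ∣ q + 1 → ¬ 3 ^ (a + 2) ∣ orderOf x
  c2 : q = 2 → ∀ (x : L) (t : ℕ), t.Prime → 5 ≤ t → t ≠ 7 → orderOf x ≠ 9 * t

theorem exists_six {q : ℕ} (hq : 3 ≤ q) : ∃ r : ℕ, r.Prime ∧ 5 ≤ r ∧ r ∣ q ^ 2 - q + 1 := by
  have hqq : q ≤ q ^ 2 := Nat.le_self_pow (by norm_num) q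
  have h7 : 7 ≤ q ^ 2 - q + 1 := by
    have : q ^ 2 = q * q := sq q
    have h3 : 3 * q ≤ q * q := Nat.mul_le_mul_right q hq
    omega
  have h2 : ¬ 2 ∣ q ^ 2 - q + 1 := by
    intro h
    have h3 : Even (q ^ 2 - q) := by
      have : q ^ 2 - q = q * (q - 1) := by rw [sq, Nat.mul_sub, mul_one]
      rw [this]
      exact Nat.even_mul_pred_self q
    have h4 := even_iff_two_dvd.1 h3
    omega
  have h9 : ¬ 9 ∣ q ^ 2 - q + 1 := by
    intro h
    have h1 : ((q ^ 2 - q + 1 : ℕ) : ZMod 9) = 0 := (ZMod.natCast_eq_zero_iff _ _).2 h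
    rw [Nat.cast_add, Nat.cast_sub hqq] at h1
    push_cast at h1
    generalize (q : ZMod 9) = z at h1
    revert z
    decide
  by_contra hcon
  push Not at hcon
  have h3 : ∀ {r : ℕ}, r.Prime → r ∣ q ^ 2 - q + 1 → r = 3 := by
    intro r hr hd
    have h5 : ¬ 5 ≤ r := fun h => hcon r hr h hd
    have := hr.two_le
    interval_cases r
    · exact absurd hd h2
    · rfl
    · exact absurd hr (by norm_num)
  have h4 := Nat.eq_prime_pow_of_unique_prime_dvd (n := q ^ 2 - q + 1) (p := 3) (by omega) h3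
  obtain ⟨k, hk⟩ : ∃ k, k = (q ^ 2 - q + 1).primeFactorsList.length := ⟨_, rfl⟩
  rw [← hk] at h4
  have h5 : 2 ≤ k := by
    by_contra h
    have : k = 0 ∨ k = 1 := by omega
    rcases this with rfl | rfl <;> omega
  apply h9
  rw [h4]
  exact (show 9 = 3 ^ 2 by norm_num) ▸ pow_dvd_pow 3 h5

section T

variable {K : Type v} [Field K] [Fintype K] {D : Dat} (he : D.ε = -1) (hK : Fintype.card K = D.q ^ 2)

include hK in
/-- there is an involution -/
theorem two_tE6 : ∃ x : ↥(twistedE6 K D.q), orderOf x = 2 := by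
  have : Fact (Nat.Prime 2) := ⟨Nat.prime_two⟩
  apply exists_prime_orderOf_dvd_card' 2
  refine two_dvd_of (q := D.q) (a := D.q + 1)
    (b := (D.q ^ 5 + 1) * (D.q ^ 6 - 1) * (D.q ^ 8 - 1) * (D.q ^ 9 + 1) * (D.q ^ 12 - 1)) (by have := D.two_le; omega) ?_
  rw [S1066.result D.pp hK]
  ring

include hK in
/-- **Frobenius subgroups in characteristic `p`, of all covers.** -/
theorem exists_frob (hO : OrdT ↥(twistedE6 K D.q) D.q) {p : ℕ} (hp : p.Prime) (hpq : p ∣ D.q) {t : ℕ} (ht : t.Prime)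
    (htp : t ≠ p) : ∃ n, FrobSub ↥(twistedE6 K D.q) p n ∧ ¬ ∃ y : ↥(twistedE6 K D.q), orderOf y = t * n := by
  obtain ⟨q, hq⟩ : ∃ q, q = D.q := ⟨_, rfl⟩
  have hpp : IsPrimePow q := hq ▸ D.pp
  have hq2 : 2 ≤ q := hq ▸ D.two_le
  rw [← hq] at hO hpq hK ⊢
  have hcK : Nat.card K = q ^ 2 := by rw [Nat.card_eq_fintype_card, hK]
  have htq : ¬ t ∣ q := by
    intro h
    obtain ⟨p', n, hp', -, hn⟩ := id hpp
    have h1 : ∀ {s : ℕ}, s.Prime → s ∣ q → s = p' := fun {s} hs h2 =>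
      (Nat.prime_dvd_prime_iff_eq hs hp'.nat_prime).1 (hs.dvd_of_dvd_pow (hn ▸ h2))
    exact htp ((h1 ht h).trans (h1 hp hpq).symm)
  have hqq : q ≤ q ^ 2 := Nat.le_self_pow (by norm_num) q
  obtain ⟨r, hr, hr2, hrd⟩ := H72.F4I.exists_eight hq2
  have hr3 : r ≠ 3 := by
    rintro rfl
    exact not_three_q4 hrd
  have hrq1 : ¬ r ∣ q + 1 := by
    intro h
    have h1 : (r : ℤ) ∣ (q : ℤ) + 1 := by exact_mod_cast h
    have h2 : (r : ℤ) ∣ (q : ℤ) ^ 4 + 1 := by exact_mod_cast hrd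
    have h3 : (r : ℤ) ∣ 2 := by
      have e : (2 : ℤ) = ((q : ℤ) ^ 4 + 1) - ((q : ℤ) + 1) * ((q : ℤ) ^ 3 - q ^ 2 + q - 1) := by ring
      rw [e]
      exact dvd_sub h2 (h1.mul_right _)
    have h4 : r ∣ 2 := by exact_mod_cast h3
    exact hr2 ((Nat.prime_dvd_prime_iff_eq hr Nat.prime_two).1 h4)
  by_cases hA : t ∣ q ^ 2 + q + 1
  · have hAz : (t : ℤ) ∣ (q : ℤ) ^ 2 + q + 1 := by exact_mod_cast hA
    have hrz : (r : ℤ) ∣ ((q : ℤ) ^ 4 + 1) * ((q : ℤ) ^ 2 - 1) := by
      have : (r : ℤ) ∣ (q : ℤ) ^ 4 + 1 := by exact_mod_cast hrd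
      exact this.mul_right _
    by_cases ht3 : t = 3
    · subst ht3
      -- `3 ∣ q - 1`
      have h31 : 3 ∣ q - 1 := by
        have h1 : ((q ^ 2 + q + 1 : ℕ) : ZMod 3) = 0 := (ZMod.natCast_eq_zero_iff _ _).2 hA
        push_cast at h1
        have h2 : (q : ZMod 3) - 1 = 0 := by
          generalize (q : ZMod 3) = z at h1
          revert z
          decide
        have h3 : ((q - 1 : ℕ) : ZMod 3) = 0 := by
          rw [Nat.cast_sub (by omega)]
          simpa using h2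
        exact (ZMod.natCast_eq_zero_iff _ _).1 h3
      have h3q1 : ¬ 3 ∣ q + 1 := by omega
      obtain ⟨a, ha1, ha2⟩ := exists_three_part (m := q - 1) (by omega)
      have hcop : Nat.Coprime (3 ^ a) r := Nat.Coprime.pow_left a ((Nat.coprime_primes Nat.prime_three hr).2 hr3.symm)
      refine ⟨3 ^ a * r, frob_tE6_8 hpp hK hp hpq (Nat.mul_pos (by positivity) hr.pos) ?_ ?_, ?_⟩
      · have h1 : (3 ^ a * r : ℕ) ∣ (q ^ 4 + 1) * (q ^ 2 - 1) := by
          refine hcop.mul_dvd_of_dvd_of_dvd ?_ (hrd.mul_right _)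
          refine (ha1.trans ?_).mul_left _
          have h := Nat.sub_dvd_pow_sub_pow q 1 2
          rwa [one_pow] at h
        have h2 := Int.natCast_dvd_natCast.2 h1
        have e : (((q ^ 4 + 1) * (q ^ 2 - 1) : ℕ) : ℤ) = ((q : ℤ) ^ 4 + 1) * ((q : ℤ) ^ 2 - 1) := by
          have : 1 ≤ q ^ 2 := Nat.one_le_pow _ _ (by omega)
          push_cast [Nat.cast_sub this]
          ring
        rwa [e] at h2
      · exact Nat.Coprime.mul_left (Nat.Coprime.pow_left a ((Nat.Prime.coprime_iff_not_dvd Nat.prime_three).2 h3q1))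
          ((Nat.Prime.coprime_iff_not_dvd hr).2 hrq1)
      · rintro ⟨y, hy⟩
        have h8 := ExactZ.Z8_tE6 (K := K) hpp hcK y hr hr2 hrd (by rw [hy]; exact (dvd_mul_left r _).mul_left 3)
        rw [hy] at h8
        have h5 : 3 ^ (a + 1) ∣ (q ^ 4 + 1) * (q ^ 2 - 1) := by
          refine Dvd.dvd.trans ?_ h8
          rw [pow_succ]
          exact ⟨r, by ring⟩
        have e : (q ^ 4 + 1) * (q ^ 2 - 1) = (q ^ 4 + 1) * ((q + 1) * (q - 1)) := by
          congr 1
          have := Nat.sq_sub_sq q 1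
          simpa using this
        rw [e] at h5
        have hc1 : Nat.Coprime (3 ^ (a + 1)) (q ^ 4 + 1) :=
          Nat.Coprime.pow_left _ ((Nat.Prime.coprime_iff_not_dvd Nat.prime_three).2 not_three_q4)
        have hc2 : Nat.Coprime (3 ^ (a + 1)) (q + 1) :=
          Nat.Coprime.pow_left _ ((Nat.Prime.coprime_iff_not_dvd Nat.prime_three).2 h3q1)
        exact ha2 (hc2.dvd_of_dvd_mul_left (hc1.dvd_of_dvd_mul_left h5))
    · refine ⟨r, frob_tE6_8 hpp hK hp hpq hr.pos hrz ((Nat.Prime.coprime_iff_not_dvd hr).2 hrq1), ?_⟩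
      rintro ⟨y, hy⟩
      have h8 := ExactZ.Z8_tE6 (K := K) hpp hcK y hr hr2 hrd (by rw [hy]; exact dvd_mul_left r t)
      rw [hy] at h8
      have h9 : (t : ℤ) ∣ ((q : ℤ) ^ 4 + 1) * ((q : ℤ) ^ 2 - 1) := by
        have h10 : t ∣ (q ^ 4 + 1) * (q ^ 2 - 1) := (dvd_mul_right t r).trans h8
        have h2 := Int.natCast_dvd_natCast.2 h10
        have e : (((q ^ 4 + 1) * (q ^ 2 - 1) : ℕ) : ℤ) = ((q : ℤ) ^ 4 + 1) * ((q : ℤ) ^ 2 - 1) := by
          have : 1 ≤ q ^ 2 := Nat.one_le_pow _ _ (by omega)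
          push_cast [Nat.cast_sub this]
          ring
        rwa [e] at h2
      -- `t ∣ 3`
      have h11 : (t : ℤ) ∣ 3 := by
        have hpz := Nat.prime_iff_prime_int.1 ht
        have hcase : (t : ℤ) ∣ (q : ℤ) + 1 ∨ (t : ℤ) ∣ (q : ℤ) - 1 := by
          rcases hpz.dvd_or_dvd h9 with h | h
          · left
            have e : (q : ℤ) + 1 = ((q : ℤ) ^ 4 + 1) - ((q : ℤ) ^ 2 - q) * ((q : ℤ) ^ 2 + q + 1) := by ring
            rw [e]
            exact dvd_sub h (hAz.mul_left _)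
          · have e : (q : ℤ) ^ 2 - 1 = ((q : ℤ) + 1) * ((q : ℤ) - 1) := by ring
            rw [e] at h
            exact hpz.dvd_or_dvd h
        rcases hcase with h | h
        · have e : (3 : ℤ) = 3 * (((q : ℤ) ^ 2 + q + 1) - q * ((q : ℤ) + 1)) := by ring
          rw [e]
          exact (dvd_sub hAz (h.mul_left _)).mul_left _
        · have e : (3 : ℤ) = ((q : ℤ) ^ 2 + q + 1) - ((q : ℤ) + 2) * ((q : ℤ) - 1) := by ring
          rw [e]
          exact dvd_sub hAz (h.mul_left _)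
      have h12 : t ∣ 3 := by exact_mod_cast h11
      exact ht3 ((Nat.prime_dvd_prime_iff_eq ht Nat.prime_three).1 h12)
  · -- `t` does not divide `q² + q + 1`
    have hfF : ∀ {N : ℕ}, 0 < N → (N : ℤ) ∣ ((q : ℤ) ^ 3 + 1) * ((q : ℤ) - 1) → ¬ 2 ∣ N →
        FrobSub ↥(twistedE6 K q) p N := by
      intro N hN hd h2
      obtain ⟨F, _, _, hF, f, hfq⟩ := FE.exists_subfield hK
      exact (frob_F4 hF hp hpq hN hd h2).map (FE.toTE6_injective f hfq)
    by_cases ht3 : t = 3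
    · subst ht3
      have h31 : 3 ∣ q + 1 := by
        have h1 : ¬ ((q ^ 2 + q + 1 : ℕ) : ZMod 3) = 0 := fun h => hA ((ZMod.natCast_eq_zero_iff _ _).1 h)
        have h2 : ¬ ((q : ℕ) : ZMod 3) = 0 := fun h => htq ((ZMod.natCast_eq_zero_iff _ _).1 h)
        apply (ZMod.natCast_eq_zero_iff _ _).1
        push_cast at h1 ⊢
        generalize (q : ZMod 3) = z at h1 h2
        revert z
        decide
      obtain ⟨a, ha1, ha2⟩ := exists_three_part (m := q + 1) (by omega)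
      refine ⟨3 ^ (a + 1), hfF (by positivity) ?_ ?_, ?_⟩
      · have h1 : (3 : ℤ) ^ a ∣ (q : ℤ) + 1 := by exact_mod_cast ha1
        have h2 : (3 : ℤ) ∣ (q : ℤ) ^ 2 - q + 1 := by
          have h3 : (3 : ℤ) ∣ (q : ℤ) + 1 := by exact_mod_cast h31
          have e : (q : ℤ) ^ 2 - q + 1 = ((q : ℤ) - 2) * ((q : ℤ) + 1) + 3 := by ring
          rw [e]
          exact dvd_add (h3.mul_left _) dvd_rfl
        have e : ((q : ℤ) ^ 3 + 1) * ((q : ℤ) - 1) = (((q : ℤ) + 1) * ((q : ℤ) ^ 2 - q + 1)) * ((q : ℤ) - 1) := by ring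
        rw [e, Nat.cast_pow, pow_succ]
        exact (mul_dvd_mul h1 h2).mul_right _
      · intro h
        have := (Nat.prime_dvd_prime_iff_eq Nat.prime_two Nat.prime_three).1 (Nat.prime_two.dvd_of_dvd_pow h)
        omega
      · rintro ⟨y, hy⟩
        refine hO.c3 h31 y a ha2 ?_
        rw [hy]
        exact ⟨1, by ring⟩
    · by_cases hq2' : q = 2
      · subst hq2'
        have hp2 : p = 2 := (Nat.prime_dvd_prime_iff_eq hp Nat.prime_two).1 hpq
        refine ⟨9, hfF (by norm_num) (by norm_num) (by norm_num), ?_⟩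
        rintro ⟨y, hy⟩
        have h5 : 5 ≤ t := by
          have := ht.two_le
          by_contra h
          have : t = 2 ∨ t = 3 ∨ t = 4 := by omega
          rcases this with rfl | rfl | rfl
          · exact htp hp2.symm
          · exact ht3 rfl
          · exact absurd ht (by norm_num)
        refine hO.c2 rfl y t ht h5 ?_ (by rw [hy]; ring)
        rintro rfl
        exact hA (by norm_num)
      · have hq3 : 3 ≤ q := by omega
        refine ⟨_, frob_tE6_6 hpp hK hp hpq, ?_⟩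
        rintro ⟨y, hy⟩
        obtain ⟨g, hg⟩ : ∃ g, g = Nat.gcd 3 (q + 1) := ⟨_, rfl⟩
        rw [← hg] at hy
        have hg3 : g ∣ 3 := hg ▸ Nat.gcd_dvd_left 3 _
        have hg0 : 0 < g := Nat.pos_of_dvd_of_pos hg3 (by norm_num)
        have h4 : q + 1 ∣ q ^ 3 + 1 := by
          have h5 := Odd.nat_add_dvd_pow_add_pow q 1 (n := 3) (by decide)
          rwa [one_pow] at h5
        obtain ⟨N1, hN1⟩ : g ∣ (q ^ 3 + 1) * (q - 1) := by
          rw [hg]
          exact ((Nat.gcd_dvd_right 3 (q + 1)).trans h4).mul_right _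
        rw [hN1, Nat.mul_div_cancel_left _ hg0] at hy
        have hN1z : (g : ℤ) * N1 = ((q : ℤ) ^ 3 + 1) * ((q : ℤ) - 1) := by
          have h6 := congrArg (Nat.cast : ℕ → ℤ) hN1
          push_cast [Nat.cast_sub (show 1 ≤ q by omega)] at h6
          exact h6.symm
        have hN0 : 0 < N1 := by
          rcases Nat.eq_zero_or_pos N1 with h | h
          · exfalso
            rw [h, mul_zero] at hN1
            have : 0 < (q ^ 3 + 1) * (q - 1) := Nat.mul_pos (by positivity) (by omega)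
            omega
          · exact h
        have htg : ¬ t ∣ g := fun h => ht3 ((Nat.prime_dvd_prime_iff_eq ht Nat.prime_three).1 (h.trans hg3))
        have hpg : ¬ p ∣ (q ^ 3 + 1) * (q - 1) := by
          intro h
          have h1 : (p : ℤ) ∣ ((q : ℤ) ^ 3 + 1) * ((q : ℤ) - 1) := by
            have h2 := Int.natCast_dvd_natCast.2 h
            push_cast [Nat.cast_sub (show 1 ≤ q by omega)] at h2
            exact h2
          have h2 : (p : ℤ) ∣ q := Int.natCast_dvd_natCast.2 hpq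
          have h3 : (p : ℤ) ∣ 1 := by
            have e : (1 : ℤ) = q * ((q : ℤ) ^ 3 - q ^ 2 + 1) - ((q : ℤ) ^ 3 + 1) * ((q : ℤ) - 1) := by ring
            rw [e]
            exact dvd_sub (h2.mul_right _) h1
          have h5 : p ∣ 1 := by exact_mod_cast h3
          exact hp.one_lt.ne' (Nat.dvd_one.1 h5)
        have hpy : ¬ p ∣ orderOf y := by
          rw [hy, Nat.Prime.dvd_mul hp]
          rintro (h | h)
          · exact htp ((Nat.prime_dvd_prime_iff_eq hp ht).1 h).symm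
          · exact hpg (hN1 ▸ h.mul_left g)
        obtain ⟨s, hs, hs5, hsd⟩ := exists_six hq3
        have hsz : (s : ℤ) ∣ (q : ℤ) ^ 2 - q + 1 := by
          have h1 := Int.natCast_dvd_natCast.2 hsd
          push_cast [Nat.cast_sub hqq] at h1
          exact h1
        have hsN : s ∣ N1 := by
          have h1 : (s : ℤ) ∣ (g : ℤ) * N1 := by
            rw [hN1z]
            have e : ((q : ℤ) ^ 3 + 1) * ((q : ℤ) - 1) = ((q : ℤ) ^ 2 - q + 1) * (((q : ℤ) + 1) * ((q : ℤ) - 1)) := by ring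
            rw [e]
            exact hsz.mul_right _
          have h2 : s ∣ g * N1 := by exact_mod_cast h1
          rcases (Nat.Prime.dvd_mul hs).1 h2 with h3 | h3
          · have := Nat.le_of_dvd (by norm_num) (h3.trans hg3)
            omega
          · exact h3
        have hq6 : 1 ≤ q ^ 6 := Nat.one_le_pow _ _ (by omega)
        have hq4 : q ^ 2 ≤ q ^ 4 := Nat.pow_le_pow_right (by omega) (by norm_num)
        rcases hO.c6 y p s hp hpq hpy hs hs5 hsd (by rw [hy]; exact hsN.mul_left t) with h | h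
        · -- `t ∣ g (q² + q + 1)`
          rw [hy] at h
          have h1 : ((t * N1 : ℕ) : ℤ) ∣ (q : ℤ) ^ 6 - 1 := by
            have h2 := Int.natCast_dvd_natCast.2 h
            rw [Nat.cast_sub hq6] at h2
            simpa using h2
          have e : (q : ℤ) ^ 6 - 1 = ((g : ℤ) * ((q : ℤ) ^ 2 + q + 1)) * N1 := by
            calc (q : ℤ) ^ 6 - 1 = (((q : ℤ) ^ 3 + 1) * ((q : ℤ) - 1)) * ((q : ℤ) ^ 2 + q + 1) := by ring
              _ = _ := by rw [← hN1z]; ring
          rw [e] at h1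
          push_cast at h1
          have h2 : (t : ℤ) ∣ (g : ℤ) * ((q : ℤ) ^ 2 + q + 1) :=
            Int.dvd_of_mul_dvd_mul_right (by exact_mod_cast hN0.ne') h1
          have h3 : t ∣ g * (q ^ 2 + q + 1) := by exact_mod_cast h2
          rcases (Nat.Prime.dvd_mul ht).1 h3 with h5 | h5
          · exact htg h5
          · exact hA h5
        · -- `q² - 1 ∣ g`
          rw [hy] at h
          have h1 : (N1 : ℤ) ∣ ((q : ℤ) ^ 2 - q + 1) * ((q : ℤ) ^ 4 - q ^ 2 + 1) := by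
            have h2 := Int.natCast_dvd_natCast.2 ((dvd_mul_left N1 t).trans h)
            push_cast [Nat.cast_sub hqq, Nat.cast_sub hq4] at h2
            exact h2
          have h2 : (g : ℤ) * N1 ∣ (g : ℤ) * (((q : ℤ) ^ 2 - q + 1) * ((q : ℤ) ^ 4 - q ^ 2 + 1)) := mul_dvd_mul_left _ h1
          rw [hN1z] at h2
          have hpos : (0 : ℤ) < (q : ℤ) ^ 2 - q + 1 := by nlinarith [(by exact_mod_cast hq3 : (3 : ℤ) ≤ q)]
          have h5 : (q : ℤ) ^ 2 - 1 ∣ (g : ℤ) * ((q : ℤ) ^ 4 - q ^ 2 + 1) := by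
            have e1 : ((q : ℤ) ^ 3 + 1) * ((q : ℤ) - 1) = ((q : ℤ) ^ 2 - q + 1) * ((q : ℤ) ^ 2 - 1) := by ring
            have e2 : (g : ℤ) * (((q : ℤ) ^ 2 - q + 1) * ((q : ℤ) ^ 4 - q ^ 2 + 1)) =
              ((q : ℤ) ^ 2 - q + 1) * ((g : ℤ) * ((q : ℤ) ^ 4 - q ^ 2 + 1)) := by ring
            rw [e1, e2] at h2
            exact Int.dvd_of_mul_dvd_mul_left hpos.ne' h2
          have h6 : (q : ℤ) ^ 2 - 1 ∣ (g : ℤ) := by
            have e : (g : ℤ) = (g : ℤ) * ((q : ℤ) ^ 4 - q ^ 2 + 1) - ((q : ℤ) ^ 2 - 1) * (g * q ^ 2) := by ring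
            rw [e]
            exact dvd_sub h5 (dvd_mul_right _ _)
          have h7 := Int.le_of_dvd (by exact_mod_cast hg0) h6
          have h8 : (g : ℤ) ≤ 3 := by exact_mod_cast Nat.le_of_dvd (by norm_num) hg3
          have h9 : (3 : ℤ) ≤ q := by exact_mod_cast hq3
          nlinarith

include he hK in
/-- **Covers of `²E₆(q)`.** -/
theorem cov_tE6 (hO : OrdT ↥(twistedE6 K D.q) D.q) : Cov.{v, w} ↥(twistedE6 K D.q) := by
  intro t ht V _ _ _ hV φ
  have hsit := sit_tE6 he hK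
  have h2 := two_tE6 hK
  obtain ⟨hsim, -⟩ := S1070.result D.pp hK
  obtain ⟨p, n, hp', hn, hqe⟩ := id D.pp
  have hp : p.Prime := hp'.nat_prime
  have hpq : p ∣ D.q := hqe ▸ dvd_pow_self p hn.ne'
  by_cases htp : t = p
  · subst htp
    obtain ⟨r, hr, hrm, hrp, ⟨x, hx⟩, hno⟩ := exists_m hsit ht hpq
    have hrz : (r : ℤ) ∣ 1 - (D.q : ℤ) ^ 2 + (D.q : ℤ) ^ 4 := by
      have h3 : (r : ℤ) ∣ D.m := Int.natCast_dvd_natCast.2 hrm
      rw [D.hm] at h3
      have e : (1 : ℤ) - (D.q : ℤ) ^ 2 + (D.q : ℤ) ^ 4 = (D.q : ℤ) ^ 4 - D.q ^ 2 + 1 := by ring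
      rwa [e]
    have hpf : Fact t.Prime := ⟨ht⟩
    have hfix : H425.KFix.FixAll.{w} t x := FE.fixAll_tE6_12' D.pp hK hr hrz
      (fun F _ _ hF y hy => by
        have hc : CharP F t := by
          obtain ⟨p', hp'⟩ := CharP.exists F
          have h5 : p'.Prime := CharP.char_is_prime F p'
          obtain ⟨n', -, h6⟩ := @FiniteField.card F _ _ p' hp'
          have h7 : t ∣ p' ^ (n' : ℕ) := by rw [← h6, hF]; exact hpq
          have h8 := (Nat.prime_dvd_prime_iff_eq ht h5).1 (ht.dvd_of_dvd_pow h7)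
          rw [h8]; exact hp'
        exact H564.U.fixAll_F4 y (by rw [hy]; exact (Nat.coprime_primes hr ht).2 hrp)) hx
    refine own_step ht hfix ?_ (by rw [hx]; exact hno) hV φ
    rw [hx]
    intro h3
    exact hrp ((Nat.prime_dvd_prime_iff_eq ht hr).1 h3).symm
  · obtain ⟨x₀, h0, hx0⟩ := exists_x0 hsit h2 ht
    obtain ⟨n, hn1, hn2⟩ := exists_frob hK hO hp hpq ht htp
    exact hn1.cov hp ht htp hV φ hn2 h0 hx0

end T

end Cfsg.Agent.H414.E6
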